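import Cfsg.Agent.JankoOne.Iso.C0.Data
import Cfsg.Agent.JankoOne.Iso.Words
import Cfsg.Agent.CosetCert.TabSplit

/-!
The final table of the certificate.
-/

set_option autoImplicit false

namespace Cfsg.Lib.JankoOne.Iso.C0

open Cfsg.Lib.CosetCert

theorem tab0_ok : cert.tabPart 17151 0 200 = true := by decide +kernel

theorem tab200_ok : cert.tabPart 17151 200 200 = true := by decide +kernel

theorem tab400_ok : cert.tabPart 17151 400 200 = true := by decide +kernel

theorem tab600_ok : cert.tabPart 17151 600 200 = true := by decide +kernel

theorem tab800_ok : cert.tabPart 17151 800 200 = true := by decide +kernel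

theorem tab1000_ok : cert.tabPart 17151 1000 200 = true := by decide +kernel

theorem tab1200_ok : cert.tabPart 17151 1200 200 = true := by decide +kernel

theorem tab1400_ok : cert.tabPart 17151 1400 63 = true := by decide +kernel

end Cfsg.Lib.JankoOne.Iso.C0
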