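import Cfsg.Agent.JankoOne.Iso.C0.Steps0
import Cfsg.Agent.JankoOne.Iso.C0.Steps1
import Cfsg.Agent.JankoOne.Iso.C0.Steps2
import Cfsg.Agent.JankoOne.Iso.C0.Steps3
import Cfsg.Agent.JankoOne.Iso.C0.Table
import Cfsg.Agent.JankoOne.Iso.Words
import Cfsg.Agent.CosetCert.TabSplit

/-!
The certificate is valid.
-/

set_option autoImplicit false

namespace Cfsg.Lib.JankoOne.Iso.C0

open Cfsg.Lib.CosetCert

theorem steps0_ok : cert.stepsOK 0 steps0 = true ∧ ruleBound spec.length steps0 = true := by decide +kernel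

def cat1_0 : List (ℕ × ℕ) := steps0 ++ steps1

theorem cat1_0_ok : cert.stepsOK 0 cat1_0 = true ∧ ruleBound spec.length cat1_0 = true :=
  stepsOK_cat steps0_ok steps1_ok (by decide +kernel)

def cat1_1 : List (ℕ × ℕ) := steps2 ++ steps3

theorem cat1_1_ok : cert.stepsOK 512 cat1_1 = true ∧ ruleBound spec.length cat1_1 = true :=
  stepsOK_cat steps2_ok steps3_ok (by decide +kernel)

def cat1_2 : List (ℕ × ℕ) := steps4 ++ steps5

theorem cat1_2_ok : cert.stepsOK 1024 cat1_2 = true ∧ ruleBound spec.length cat1_2 = true :=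
  stepsOK_cat steps4_ok steps5_ok (by decide +kernel)

def cat1_3 : List (ℕ × ℕ) := steps6 ++ steps7

theorem cat1_3_ok : cert.stepsOK 1536 cat1_3 = true ∧ ruleBound spec.length cat1_3 = true :=
  stepsOK_cat steps6_ok steps7_ok (by decide +kernel)

def cat1_4 : List (ℕ × ℕ) := steps8 ++ steps9

theorem cat1_4_ok : cert.stepsOK 2048 cat1_4 = true ∧ ruleBound spec.length cat1_4 = true :=
  stepsOK_cat steps8_ok steps9_ok (by decide +kernel)

def cat1_5 : List (ℕ × ℕ) := steps10 ++ steps11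

theorem cat1_5_ok : cert.stepsOK 2560 cat1_5 = true ∧ ruleBound spec.length cat1_5 = true :=
  stepsOK_cat steps10_ok steps11_ok (by decide +kernel)

def cat1_6 : List (ℕ × ℕ) := steps12 ++ steps13

theorem cat1_6_ok : cert.stepsOK 3072 cat1_6 = true ∧ ruleBound spec.length cat1_6 = true :=
  stepsOK_cat steps12_ok steps13_ok (by decide +kernel)

def cat1_7 : List (ℕ × ℕ) := steps14 ++ steps15

theorem cat1_7_ok : cert.stepsOK 3584 cat1_7 = true ∧ ruleBound spec.length cat1_7 = true :=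
  stepsOK_cat steps14_ok steps15_ok (by decide +kernel)

def cat1_8 : List (ℕ × ℕ) := steps16 ++ steps17

theorem cat1_8_ok : cert.stepsOK 4096 cat1_8 = true ∧ ruleBound spec.length cat1_8 = true :=
  stepsOK_cat steps16_ok steps17_ok (by decide +kernel)

def cat1_9 : List (ℕ × ℕ) := steps18 ++ steps19

theorem cat1_9_ok : cert.stepsOK 4608 cat1_9 = true ∧ ruleBound spec.length cat1_9 = true :=
  stepsOK_cat steps18_ok steps19_ok (by decide +kernel)

def cat1_10 : List (ℕ × ℕ) := steps20 ++ steps21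

theorem cat1_10_ok : cert.stepsOK 5120 cat1_10 = true ∧ ruleBound spec.length cat1_10 = true :=
  stepsOK_cat steps20_ok steps21_ok (by decide +kernel)

def cat1_11 : List (ℕ × ℕ) := steps22 ++ steps23

theorem cat1_11_ok : cert.stepsOK 5632 cat1_11 = true ∧ ruleBound spec.length cat1_11 = true :=
  stepsOK_cat steps22_ok steps23_ok (by decide +kernel)

def cat1_12 : List (ℕ × ℕ) := steps24 ++ steps25

theorem cat1_12_ok : cert.stepsOK 6144 cat1_12 = true ∧ ruleBound spec.length cat1_12 = true :=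
  stepsOK_cat steps24_ok steps25_ok (by decide +kernel)

def cat1_13 : List (ℕ × ℕ) := steps26 ++ steps27

theorem cat1_13_ok : cert.stepsOK 6656 cat1_13 = true ∧ ruleBound spec.length cat1_13 = true :=
  stepsOK_cat steps26_ok steps27_ok (by decide +kernel)

def cat1_14 : List (ℕ × ℕ) := steps28 ++ steps29

theorem cat1_14_ok : cert.stepsOK 7168 cat1_14 = true ∧ ruleBound spec.length cat1_14 = true :=
  stepsOK_cat steps28_ok steps29_ok (by decide +kernel)

def cat1_15 : List (ℕ × ℕ) := steps30 ++ steps31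

theorem cat1_15_ok : cert.stepsOK 7680 cat1_15 = true ∧ ruleBound spec.length cat1_15 = true :=
  stepsOK_cat steps30_ok steps31_ok (by decide +kernel)

def cat1_16 : List (ℕ × ℕ) := steps32 ++ steps33

theorem cat1_16_ok : cert.stepsOK 8192 cat1_16 = true ∧ ruleBound spec.length cat1_16 = true :=
  stepsOK_cat steps32_ok steps33_ok (by decide +kernel)

def cat1_17 : List (ℕ × ℕ) := steps34 ++ steps35

theorem cat1_17_ok : cert.stepsOK 8704 cat1_17 = true ∧ ruleBound spec.length cat1_17 = true :=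
  stepsOK_cat steps34_ok steps35_ok (by decide +kernel)

def cat1_18 : List (ℕ × ℕ) := steps36 ++ steps37

theorem cat1_18_ok : cert.stepsOK 9216 cat1_18 = true ∧ ruleBound spec.length cat1_18 = true :=
  stepsOK_cat steps36_ok steps37_ok (by decide +kernel)

def cat1_19 : List (ℕ × ℕ) := steps38 ++ steps39

theorem cat1_19_ok : cert.stepsOK 9728 cat1_19 = true ∧ ruleBound spec.length cat1_19 = true :=
  stepsOK_cat steps38_ok steps39_ok (by decide +kernel)

def cat1_20 : List (ℕ × ℕ) := steps40 ++ steps41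

theorem cat1_20_ok : cert.stepsOK 10240 cat1_20 = true ∧ ruleBound spec.length cat1_20 = true :=
  stepsOK_cat steps40_ok steps41_ok (by decide +kernel)

def cat1_21 : List (ℕ × ℕ) := steps42 ++ steps43

theorem cat1_21_ok : cert.stepsOK 10752 cat1_21 = true ∧ ruleBound spec.length cat1_21 = true :=
  stepsOK_cat steps42_ok steps43_ok (by decide +kernel)

def cat1_22 : List (ℕ × ℕ) := steps44 ++ steps45

theorem cat1_22_ok : cert.stepsOK 11264 cat1_22 = true ∧ ruleBound spec.length cat1_22 = true :=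
  stepsOK_cat steps44_ok steps45_ok (by decide +kernel)

def cat1_23 : List (ℕ × ℕ) := steps46 ++ steps47

theorem cat1_23_ok : cert.stepsOK 11776 cat1_23 = true ∧ ruleBound spec.length cat1_23 = true :=
  stepsOK_cat steps46_ok steps47_ok (by decide +kernel)

def cat1_24 : List (ℕ × ℕ) := steps48 ++ steps49

theorem cat1_24_ok : cert.stepsOK 12288 cat1_24 = true ∧ ruleBound spec.length cat1_24 = true :=
  stepsOK_cat steps48_ok steps49_ok (by decide +kernel)

def cat1_25 : List (ℕ × ℕ) := steps50 ++ steps51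

theorem cat1_25_ok : cert.stepsOK 12800 cat1_25 = true ∧ ruleBound spec.length cat1_25 = true :=
  stepsOK_cat steps50_ok steps51_ok (by decide +kernel)

def cat1_26 : List (ℕ × ℕ) := steps52 ++ steps53

theorem cat1_26_ok : cert.stepsOK 13312 cat1_26 = true ∧ ruleBound spec.length cat1_26 = true :=
  stepsOK_cat steps52_ok steps53_ok (by decide +kernel)

def cat1_27 : List (ℕ × ℕ) := steps54 ++ steps55

theorem cat1_27_ok : cert.stepsOK 13824 cat1_27 = true ∧ ruleBound spec.length cat1_27 = true :=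
  stepsOK_cat steps54_ok steps55_ok (by decide +kernel)

def cat1_28 : List (ℕ × ℕ) := steps56 ++ steps57

theorem cat1_28_ok : cert.stepsOK 14336 cat1_28 = true ∧ ruleBound spec.length cat1_28 = true :=
  stepsOK_cat steps56_ok steps57_ok (by decide +kernel)

def cat1_29 : List (ℕ × ℕ) := steps58 ++ steps59

theorem cat1_29_ok : cert.stepsOK 14848 cat1_29 = true ∧ ruleBound spec.length cat1_29 = true :=
  stepsOK_cat steps58_ok steps59_ok (by decide +kernel)

def cat1_30 : List (ℕ × ℕ) := steps60 ++ steps61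

theorem cat1_30_ok : cert.stepsOK 15360 cat1_30 = true ∧ ruleBound spec.length cat1_30 = true :=
  stepsOK_cat steps60_ok steps61_ok (by decide +kernel)

def cat1_31 : List (ℕ × ℕ) := steps62 ++ steps63

theorem cat1_31_ok : cert.stepsOK 15872 cat1_31 = true ∧ ruleBound spec.length cat1_31 = true :=
  stepsOK_cat steps62_ok steps63_ok (by decide +kernel)

def cat1_32 : List (ℕ × ℕ) := steps64 ++ steps65

theorem cat1_32_ok : cert.stepsOK 16384 cat1_32 = true ∧ ruleBound spec.length cat1_32 = true :=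
  stepsOK_cat steps64_ok steps65_ok (by decide +kernel)

def cat2_0 : List (ℕ × ℕ) := cat1_0 ++ cat1_1

theorem cat2_0_ok : cert.stepsOK 0 cat2_0 = true ∧ ruleBound spec.length cat2_0 = true :=
  stepsOK_cat cat1_0_ok cat1_1_ok (by decide +kernel)

def cat2_1 : List (ℕ × ℕ) := cat1_2 ++ cat1_3

theorem cat2_1_ok : cert.stepsOK 1024 cat2_1 = true ∧ ruleBound spec.length cat2_1 = true :=
  stepsOK_cat cat1_2_ok cat1_3_ok (by decide +kernel)

def cat2_2 : List (ℕ × ℕ) := cat1_4 ++ cat1_5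

theorem cat2_2_ok : cert.stepsOK 2048 cat2_2 = true ∧ ruleBound spec.length cat2_2 = true :=
  stepsOK_cat cat1_4_ok cat1_5_ok (by decide +kernel)

def cat2_3 : List (ℕ × ℕ) := cat1_6 ++ cat1_7

theorem cat2_3_ok : cert.stepsOK 3072 cat2_3 = true ∧ ruleBound spec.length cat2_3 = true :=
  stepsOK_cat cat1_6_ok cat1_7_ok (by decide +kernel)

def cat2_4 : List (ℕ × ℕ) := cat1_8 ++ cat1_9

theorem cat2_4_ok : cert.stepsOK 4096 cat2_4 = true ∧ ruleBound spec.length cat2_4 = true :=
  stepsOK_cat cat1_8_ok cat1_9_ok (by decide +kernel)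

def cat2_5 : List (ℕ × ℕ) := cat1_10 ++ cat1_11

theorem cat2_5_ok : cert.stepsOK 5120 cat2_5 = true ∧ ruleBound spec.length cat2_5 = true :=
  stepsOK_cat cat1_10_ok cat1_11_ok (by decide +kernel)

def cat2_6 : List (ℕ × ℕ) := cat1_12 ++ cat1_13

theorem cat2_6_ok : cert.stepsOK 6144 cat2_6 = true ∧ ruleBound spec.length cat2_6 = true :=
  stepsOK_cat cat1_12_ok cat1_13_ok (by decide +kernel)

def cat2_7 : List (ℕ × ℕ) := cat1_14 ++ cat1_15

theorem cat2_7_ok : cert.stepsOK 7168 cat2_7 = true ∧ ruleBound spec.length cat2_7 = true :=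
  stepsOK_cat cat1_14_ok cat1_15_ok (by decide +kernel)

def cat2_8 : List (ℕ × ℕ) := cat1_16 ++ cat1_17

theorem cat2_8_ok : cert.stepsOK 8192 cat2_8 = true ∧ ruleBound spec.length cat2_8 = true :=
  stepsOK_cat cat1_16_ok cat1_17_ok (by decide +kernel)

def cat2_9 : List (ℕ × ℕ) := cat1_18 ++ cat1_19

theorem cat2_9_ok : cert.stepsOK 9216 cat2_9 = true ∧ ruleBound spec.length cat2_9 = true :=
  stepsOK_cat cat1_18_ok cat1_19_ok (by decide +kernel)

def cat2_10 : List (ℕ × ℕ) := cat1_20 ++ cat1_21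

theorem cat2_10_ok : cert.stepsOK 10240 cat2_10 = true ∧ ruleBound spec.length cat2_10 = true :=
  stepsOK_cat cat1_20_ok cat1_21_ok (by decide +kernel)

def cat2_11 : List (ℕ × ℕ) := cat1_22 ++ cat1_23

theorem cat2_11_ok : cert.stepsOK 11264 cat2_11 = true ∧ ruleBound spec.length cat2_11 = true :=
  stepsOK_cat cat1_22_ok cat1_23_ok (by decide +kernel)

def cat2_12 : List (ℕ × ℕ) := cat1_24 ++ cat1_25

theorem cat2_12_ok : cert.stepsOK 12288 cat2_12 = true ∧ ruleBound spec.length cat2_12 = true :=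
  stepsOK_cat cat1_24_ok cat1_25_ok (by decide +kernel)

def cat2_13 : List (ℕ × ℕ) := cat1_26 ++ cat1_27

theorem cat2_13_ok : cert.stepsOK 13312 cat2_13 = true ∧ ruleBound spec.length cat2_13 = true :=
  stepsOK_cat cat1_26_ok cat1_27_ok (by decide +kernel)

def cat2_14 : List (ℕ × ℕ) := cat1_28 ++ cat1_29

theorem cat2_14_ok : cert.stepsOK 14336 cat2_14 = true ∧ ruleBound spec.length cat2_14 = true :=
  stepsOK_cat cat1_28_ok cat1_29_ok (by decide +kernel)

def cat2_15 : List (ℕ × ℕ) := cat1_30 ++ cat1_31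

theorem cat2_15_ok : cert.stepsOK 15360 cat2_15 = true ∧ ruleBound spec.length cat2_15 = true :=
  stepsOK_cat cat1_30_ok cat1_31_ok (by decide +kernel)

def cat2_16 : List (ℕ × ℕ) := cat1_32 ++ steps66

theorem cat2_16_ok : cert.stepsOK 16384 cat2_16 = true ∧ ruleBound spec.length cat2_16 = true :=
  stepsOK_cat cat1_32_ok steps66_ok (by decide +kernel)

def cat3_0 : List (ℕ × ℕ) := cat2_0 ++ cat2_1

theorem cat3_0_ok : cert.stepsOK 0 cat3_0 = true ∧ ruleBound spec.length cat3_0 = true :=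
  stepsOK_cat cat2_0_ok cat2_1_ok (by decide +kernel)

def cat3_1 : List (ℕ × ℕ) := cat2_2 ++ cat2_3

theorem cat3_1_ok : cert.stepsOK 2048 cat3_1 = true ∧ ruleBound spec.length cat3_1 = true :=
  stepsOK_cat cat2_2_ok cat2_3_ok (by decide +kernel)

def cat3_2 : List (ℕ × ℕ) := cat2_4 ++ cat2_5

theorem cat3_2_ok : cert.stepsOK 4096 cat3_2 = true ∧ ruleBound spec.length cat3_2 = true :=
  stepsOK_cat cat2_4_ok cat2_5_ok (by decide +kernel)

def cat3_3 : List (ℕ × ℕ) := cat2_6 ++ cat2_7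

theorem cat3_3_ok : cert.stepsOK 6144 cat3_3 = true ∧ ruleBound spec.length cat3_3 = true :=
  stepsOK_cat cat2_6_ok cat2_7_ok (by decide +kernel)

def cat3_4 : List (ℕ × ℕ) := cat2_8 ++ cat2_9

theorem cat3_4_ok : cert.stepsOK 8192 cat3_4 = true ∧ ruleBound spec.length cat3_4 = true :=
  stepsOK_cat cat2_8_ok cat2_9_ok (by decide +kernel)

def cat3_5 : List (ℕ × ℕ) := cat2_10 ++ cat2_11

theorem cat3_5_ok : cert.stepsOK 10240 cat3_5 = true ∧ ruleBound spec.length cat3_5 = true :=
  stepsOK_cat cat2_10_ok cat2_11_ok (by decide +kernel)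

def cat3_6 : List (ℕ × ℕ) := cat2_12 ++ cat2_13

theorem cat3_6_ok : cert.stepsOK 12288 cat3_6 = true ∧ ruleBound spec.length cat3_6 = true :=
  stepsOK_cat cat2_12_ok cat2_13_ok (by decide +kernel)

def cat3_7 : List (ℕ × ℕ) := cat2_14 ++ cat2_15

theorem cat3_7_ok : cert.stepsOK 14336 cat3_7 = true ∧ ruleBound spec.length cat3_7 = true :=
  stepsOK_cat cat2_14_ok cat2_15_ok (by decide +kernel)

def cat4_0 : List (ℕ × ℕ) := cat3_0 ++ cat3_1

theorem cat4_0_ok : cert.stepsOK 0 cat4_0 = true ∧ ruleBound spec.length cat4_0 = true :=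
  stepsOK_cat cat3_0_ok cat3_1_ok (by decide +kernel)

def cat4_1 : List (ℕ × ℕ) := cat3_2 ++ cat3_3

theorem cat4_1_ok : cert.stepsOK 4096 cat4_1 = true ∧ ruleBound spec.length cat4_1 = true :=
  stepsOK_cat cat3_2_ok cat3_3_ok (by decide +kernel)

def cat4_2 : List (ℕ × ℕ) := cat3_4 ++ cat3_5

theorem cat4_2_ok : cert.stepsOK 8192 cat4_2 = true ∧ ruleBound spec.length cat4_2 = true :=
  stepsOK_cat cat3_4_ok cat3_5_ok (by decide +kernel)

def cat4_3 : List (ℕ × ℕ) := cat3_6 ++ cat3_7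

theorem cat4_3_ok : cert.stepsOK 12288 cat4_3 = true ∧ ruleBound spec.length cat4_3 = true :=
  stepsOK_cat cat3_6_ok cat3_7_ok (by decide +kernel)

def cat5_0 : List (ℕ × ℕ) := cat4_0 ++ cat4_1

theorem cat5_0_ok : cert.stepsOK 0 cat5_0 = true ∧ ruleBound spec.length cat5_0 = true :=
  stepsOK_cat cat4_0_ok cat4_1_ok (by decide +kernel)

def cat5_1 : List (ℕ × ℕ) := cat4_2 ++ cat4_3

theorem cat5_1_ok : cert.stepsOK 8192 cat5_1 = true ∧ ruleBound spec.length cat5_1 = true :=
  stepsOK_cat cat4_2_ok cat4_3_ok (by decide +kernel)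

def cat6_0 : List (ℕ × ℕ) := cat5_0 ++ cat5_1

theorem cat6_0_ok : cert.stepsOK 0 cat6_0 = true ∧ ruleBound spec.length cat6_0 = true :=
  stepsOK_cat cat5_0_ok cat5_1_ok (by decide +kernel)

def cat7_0 : List (ℕ × ℕ) := cat6_0 ++ cat2_16

theorem cat7_0_ok : cert.stepsOK 0 cat7_0 = true ∧ ruleBound spec.length cat7_0 = true :=
  stepsOK_cat cat6_0_ok cat2_16_ok (by decide +kernel)

theorem spec_ok : cert.rotsOK (relsOf high) spec = true := by decide +kernel

theorem len_eq : cat7_0.length = 17151 := by decide +kernel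

theorem tabTo0_ok : cert.tabPart 17151 0 200 = true := tab0_ok

theorem tabTo1_ok : cert.tabPart 17151 0 400 = true :=
  Cert.tabPart_add (b := 200) (c := 200) tabTo0_ok (by rw [Nat.zero_add]; exact tab200_ok)

theorem tabTo2_ok : cert.tabPart 17151 0 600 = true :=
  Cert.tabPart_add (b := 400) (c := 200) tabTo1_ok (by rw [Nat.zero_add]; exact tab400_ok)

theorem tabTo3_ok : cert.tabPart 17151 0 800 = true :=
  Cert.tabPart_add (b := 600) (c := 200) tabTo2_ok (by rw [Nat.zero_add]; exact tab600_ok)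

theorem tabTo4_ok : cert.tabPart 17151 0 1000 = true :=
  Cert.tabPart_add (b := 800) (c := 200) tabTo3_ok (by rw [Nat.zero_add]; exact tab800_ok)

theorem tabTo5_ok : cert.tabPart 17151 0 1200 = true :=
  Cert.tabPart_add (b := 1000) (c := 200) tabTo4_ok (by rw [Nat.zero_add]; exact tab1000_ok)

theorem tabTo6_ok : cert.tabPart 17151 0 1400 = true :=
  Cert.tabPart_add (b := 1200) (c := 200) tabTo5_ok (by rw [Nat.zero_add]; exact tab1200_ok)

theorem tabTo7_ok : cert.tabPart 17151 0 1463 = true :=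
  Cert.tabPart_add (b := 1400) (c := 63) tabTo6_ok (by rw [Nat.zero_add]; exact tab1400_ok)

theorem tab_ok : cert.tabOK cat7_0.length = true := by
  rw [len_eq]
  exact Cert.tabOK_of_part (by decide +kernel) tabTo7_ok

theorem valid : cert.Valid (relsOf high) :=
  ⟨by decide, spec, cat7_0, spec_ok, cat7_0_ok.1, cat7_0_ok.2, tab_ok⟩

theorem fins_length : cert.fin.length = 1463 := by rw [Cert.fin, List.length_map, List.length_range]; rfl

end Cfsg.Lib.JankoOne.Iso.C0
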